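import Groth.Agent.Lib.MTMax29.Main
import Groth.Agent.Lib.MTSplit29.Main
import Groth.Agent.Lib.MTSub29.Points
import Groth.Agent.Lib.HopfFF23.Basic

/-!
# Exactness of the largest subgroups of multiplicative type (Hopf algebra form)
-/

set_option autoImplicit false
set_option linter.style.haveILetI false
set_option linter.unusedSectionVars false
set_option maxSynthPendingDepth 3
set_option backward.isDefEq.respectTransparency.types false

universe u

open TensorProduct HopfRep WithConv
open scoped Groth.Agent.CoalgH23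

noncomputable section

namespace Groth.Agent.MTExact15

open CoalgH23 MTMax29

variable {k : Type u} [Field k]

/-- An injective homomorphism of commutative Hopf algebras stays injective on the multiplicative quotients,
when the target quotient is the largest one. -/
theorem injective_bar {A A₂ B : Type u} [CommRing A] [HopfAlgebra k A] [Algebra.FiniteType k A]
    [Coalgebra.IsCocomm k A] [CommRing A₂] [HopfAlgebra k A₂] [Algebra.FiniteType k A₂] [Coalgebra.IsCocomm k A₂]
    [CommRing B] [HopfAlgebra k B] (φ : B →ₐc[k] A) (hU : IsUnipotent k B)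
    (J : Ideal A) [J.IsHopfIdeal k] (hJ : J = Ideal.map (φ : B →+* A) (RingHom.ker (Bialgebra.counitAlgHom k B)))
    (J₂ : Ideal A₂) [J₂.IsHopfIdeal k] (hJ₂ : SGA3b.IsMultType k (A₂ ⧸ J₂))
    (ψ : A₂ →ₐc[k] A) (hψ : Function.Injective ψ) (v : (A₂ ⧸ J₂) →ₐc[k] A ⧸ J)
    (hv : ∀ a, v (Ideal.Quotient.mk J₂ a) = Ideal.Quotient.mk J (ψ a)) : Function.Injective v := by
  classical
  let K := AlgebraicClosure k
  let inc : A →ₐ[k] K ⊗[k] A := Algebra.TensorProduct.includeRight
  let ψK := MultTypeLib.bcMap K ψ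
  let vK := MultTypeLib.bcMap K v
  let qJ := MultTypeLib.bcMap K (Bialgebra.Quotient.mkBialgHom (R := k) J)
  let q₂ := MultTypeLib.bcMap K (Bialgebra.Quotient.mkBialgHom (R := k) J₂)
  have hψK : Function.Injective ψK := Module.Flat.lTensor_preserves_injective_linearMap
    (M := K) (ψ : A₂ →ₐ[k] A).toLinearMap hψ
  have hcomm : ∀ y, vK (q₂ y) = qJ (ψK y) := fun y => by
    induction y using TensorProduct.induction_on with
    | zero => simp only [map_zero]
    | add a b ha hb => simp only [map_add, ha, hb]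
    | tmul l a =>
      show l ⊗ₜ[k] v (Ideal.Quotient.mk J₂ a) = l ⊗ₜ[k] Ideal.Quotient.mk J (ψ a)
      rw [hv]
  -- group-likes trivial on the largest subgroup are trivial
  have hker : RingHom.ker (qJ : K ⊗[k] A →ₐ[K] K ⊗[k] (A ⧸ J)) ≤
      Ideal.span {a : K ⊗[k] A | a ∈ comp1 K (K ⊗[k] A) ∧ Coalgebra.counit (R := K) a = 0} := by
    have h := Algebra.TensorProduct.lTensor_ker (A := K) (Ideal.Quotient.mkₐ k J) Ideal.Quotient.mk_surjective
    rw [show RingHom.ker (Ideal.Quotient.mkₐ k J) = J from Ideal.Quotient.mkₐ_ker k J] at h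
    refine h.le.trans ?_
    rw [hJ, Ideal.map_le_iff_le_comap, Ideal.map_le_iff_le_comap]
    intro b hb
    obtain ⟨n, hn⟩ := Unip23.exists_mem_fixFil hU b
    refine Ideal.subset_span ⟨mem_comp1.2 ⟨n, Unip23.one_tmul_mem_fixFil n
      ((Unip23.genFil_eq_fixFil n).ge (Unip23.map_fixFil φ n hn))⟩, ?_⟩
    show Coalgebra.counit (R := K) ((1 : K) ⊗ₜ[k] φ b) = 0
    simp [show Coalgebra.counit (R := k) b = 0 from hb]
  have hinj : ∀ g g' : GroupLike K (K ⊗[k] A₂), vK (q₂ g) = vK (q₂ g') → g = g' := fun g g' h => by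
    rw [hcomm, hcomm] at h
    let f : GroupLike K (K ⊗[k] A₂) → GroupLike K (K ⊗[k] A) := fun m => ⟨ψK m, m.2.map ψK⟩
    have h3 : ((f g * (f g')⁻¹ : GroupLike K (K ⊗[k] A)) : K ⊗[k] A) = 1 := by
      refine MTSplit29.eq_one_of_glike hker (f g * (f g')⁻¹).2 ?_
      show qJ _ = 0
      rw [map_sub, map_one, GroupLike.val_mul, map_mul, show qJ (f g : K ⊗[k] A) = qJ (f g' : K ⊗[k] A) from h,
        ← map_mul, ← GroupLike.val_mul, mul_inv_cancel, GroupLike.val_one, map_one, sub_self]
    have h4 : f g = f g' := mul_inv_eq_one.1 (GroupLike.ext h3)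
    exact GroupLike.ext (hψK (congrArg GroupLike.val h4))
  -- the source is spanned by group-likes
  let S : GroupLike K (K ⊗[k] A₂) → K ⊗[k] (A₂ ⧸ J₂) := fun g => q₂ g
  have hspan : ∀ x, x ∈ Submodule.span K (Set.range S) := by
    intro x
    obtain ⟨y, rfl⟩ : ∃ y, q₂ y = x := Algebra.TensorProduct.map_surjective (AlgHom.id K K)
      (Ideal.Quotient.mkₐ k J₂) Function.surjective_id Ideal.Quotient.mk_surjective x
    have hy := mem_span_glike_mul (k := K) y
    induction hy using Submodule.span_induction with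
    | zero => rw [map_zero]; exact zero_mem _
    | add a b _ _ ha hb => rw [map_add]; exact add_mem ha hb
    | smul r a _ ha => rw [map_smul]; exact Submodule.smul_mem _ _ ha
    | mem a ha =>
      obtain ⟨g, z, hg, hz, rfl⟩ := ha
      obtain ⟨n, hn⟩ := mem_comp1.1 hz
      have hsc := fixFil_eq_scalar (MTExt29.isPrim_eq_zero_of_isMultType
        (MultTypeLib.isMultType_baseChange K hJ₂)) n _ (Unip23.map_fixFil q₂ n hn)
      rw [map_mul, hsc, ← Algebra.commutes, ← Algebra.smul_def]
      exact Submodule.smul_mem _ _ (Submodule.subset_span ⟨⟨g, hg⟩, rfl⟩)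
  let T := Set.range S
  have hT : LinearIndependent K ((vK : K ⊗[k] (A₂ ⧸ J₂) →ₐ[K] K ⊗[k] (A ⧸ J)).toLinearMap ∘
      (fun t : T => (t : K ⊗[k] (A₂ ⧸ J₂)))) := by
    let μ : T → GroupLike K (K ⊗[k] (A ⧸ J)) := fun t => ⟨vK t.1, by
      obtain ⟨g, hg⟩ := t.2
      rw [← hg]
      exact (g.2.map q₂).map vK⟩
    refine (linearIndep_groupLikeVal (R := K) (A := K ⊗[k] (A ⧸ J))).comp μ fun t t' h => ?_
    obtain ⟨g, hg⟩ := t.2
    obtain ⟨g', hg'⟩ := t'.2
    have h2 : vK t.1 = vK t'.1 := congrArg GroupLike.val h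
    refine Subtype.ext ?_
    rw [← hg, ← hg'] at h2 ⊢
    rw [hinj g g' h2]
  have hvK : Function.Injective vK := by
    refine (injective_iff_map_eq_zero vK).2 fun x hx => ?_
    have hd := Submodule.range_ker_disjoint hT
    rw [Subtype.range_coe] at hd
    exact Submodule.disjoint_def.1 hd x (hspan x) hx
  intro a b h
  refine Module.FaithfullyFlat.tensorProduct_mk_injective (A := k) (B := K) _ (hvK ?_)
  show (1 : K) ⊗ₜ[k] v a = (1 : K) ⊗ₜ[k] v b
  rw [h]

end Groth.Agent.MTExact15
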