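import Groth.Agent.Lib.MTExact15.Alg
import Groth.Agent.Lib.QCompl15.Main

/-!
# Exactness of the largest subgroups of multiplicative type
-/

set_option autoImplicit false
set_option linter.style.haveILetI false
set_option linter.unusedSectionVars false
set_option maxSynthPendingDepth 3
set_option backward.isDefEq.respectTransparency.types false

universe u

open CategoryTheory Limits MonoidalCategory CartesianMonoidalCategory MonObj AlgebraicGeometry
open scoped TensorProduct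

noncomputable section

namespace Groth.Agent.MTExact15

open DiagGL MTRigid29

variable {k : Type u} [Field k]

theorem isClosedImmersion_pt_mk {A : Type u} [CommRing A] [Algebra k A] (J : Ideal A) :
    IsClosedImmersion (CoactBr.pt (Ideal.Quotient.mkₐ k J) : CoactBr.sp k (A ⧸ J) ⟶ CoactBr.sp k A).left :=
  IsClosedImmersion.spec_of_surjective _ Ideal.Quotient.mk_surjective

/-- A largest subgroup of multiplicative type is the subgroup cut out by the unipotent quotient. -/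
theorem exists_iso_model {G : Over (Spec (CommRingCat.of k))} [GrpObj G]
    {A : Type u} [CommRing A] [HopfAlgebra k A] [Algebra.FiniteType k A]
    (e : CoactBr.sp k A ≅ G) [IsMonHom e.hom] {B : Type u} [CommRing B] [HopfAlgebra k B] (φ : B →ₐc[k] A)
    (hU : HopfRep.IsUnipotent k B) (J : Ideal A) [J.IsHopfIdeal k]
    (hJ : J = Ideal.map (φ : B →+* A) (RingHom.ker (Bialgebra.counitAlgHom k B)))
    (hJc : SGA3b.IsMultTypeConst k (A ⧸ J))
    (M : Over (Spec (CommRingCat.of k))) [GrpObj M] (j : M ⟶ G) [IsMonHom j] [IsClosedImmersion j.left]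
    (hM : SGA3x.IsMultTypeFT M)
    (hMmax : ∀ (M' : Over (Spec (CommRingCat.of k))) [GrpObj M'] (j' : M' ⟶ G) [IsMonHom j']
      [IsClosedImmersion j'.left], SGA3x.IsMultTypeFT M' → ∃ g : M' ⟶ M, g ≫ j = j') :
    ∃ w : CoactBr.sp k (A ⧸ J) ≅ M, IsMonHom w.hom ∧
      w.hom ≫ j = CoactBr.pt (Ideal.Quotient.mkₐ k J) ≫ e.hom := by
  let qJ : CoactBr.sp k (A ⧸ J) ⟶ CoactBr.sp k A := CoactBr.pt (Ideal.Quotient.mkₐ k J)
  haveI : IsMonHom qJ := UniStr23.isMonHom_pt (Bialgebra.Quotient.mkBialgHom (R := k) J)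
  haveI : IsClosedImmersion qJ.left := isClosedImmersion_pt_mk J
  haveI : IsIso e.hom.left := inferInstanceAs (IsIso ((Over.forget _).map e.hom))
  haveI : IsClosedImmersion (qJ ≫ e.hom).left := by rw [Over.comp_left]; infer_instance
  haveI : Mono j := Over.mono_of_mono_left j
  haveI : Mono qJ := Over.mono_of_mono_left qJ
  haveI : IsMonHom (CoactBr.pt (φ : B →ₐ[k] A)) := UniStr23.isMonHom_pt φ
  obtain ⟨w, hw⟩ := RedCtr21.exists_lift_of_comp_eq_one φ hJ (j ≫ e.inv) (by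
    have h := QCompl15.eq_one_of_unipotent hU hM (j ≫ e.inv ≫ CoactBr.pt (φ : B →ₐ[k] A))
    rwa [Category.assoc])
  obtain ⟨g, hg⟩ := hMmax (CoactBr.sp k (A ⧸ J)) (qJ ≫ e.hom)
    (IsotrivialNormal.isMultTypeFT_sp (MultTypeLib.isMultType_of_const hJc))
  haveI : IsMonHom g := TorsorSch25.isMonHom_of_points g fun X a b => (cancel_mono j).1 (by
    simp only [MonObj.mul_comp, Category.assoc, hg])
  refine ⟨⟨g, w, (cancel_mono qJ).1 ?_, (cancel_mono j).1 ?_⟩, inferInstance, hg⟩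
  · rw [Category.assoc, hw, ← Category.assoc, hg, Category.assoc, e.hom_inv_id, Category.comp_id, Category.id_comp]
  · rw [Category.assoc, hg, ← Category.assoc, hw, Category.assoc, e.inv_hom_id, Category.comp_id, Category.id_comp]

/-- The largest subgroups of multiplicative type of an exact sequence of commutative affine groups form an exact
sequence. -/
theorem exists_exact
    (G₁ : Over (Spec (CommRingCat.of k))) [GrpObj G₁] [IsCommMonObj G₁] [IsAffine G₁.left] [LocallyOfFiniteType G₁.hom]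
    (G : Over (Spec (CommRingCat.of k))) [GrpObj G] [IsCommMonObj G] [IsAffine G.left] [LocallyOfFiniteType G.hom]
    (G₂ : Over (Spec (CommRingCat.of k))) [GrpObj G₂] [IsCommMonObj G₂] [IsAffine G₂.left] [LocallyOfFiniteType G₂.hom]
    (i : G₁ ⟶ G) [IsMonHom i] [IsClosedImmersion i.left]
    (q : G ⟶ G₂) [IsMonHom q] [Surjective q.left] [Flat q.left] (hq : AlgGrp.IsKernel i q)
    (M₁ : Over (Spec (CommRingCat.of k))) [GrpObj M₁] (j₁ : M₁ ⟶ G₁) [IsMonHom j₁] [IsClosedImmersion j₁.left]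
    (hM₁ : SGA3x.IsMultTypeFT M₁)
    (hM₁max : ∀ (M' : Over (Spec (CommRingCat.of k))) [GrpObj M'] (j' : M' ⟶ G₁) [IsMonHom j']
      [IsClosedImmersion j'.left], SGA3x.IsMultTypeFT M' → ∃ g : M' ⟶ M₁, g ≫ j₁ = j')
    (M : Over (Spec (CommRingCat.of k))) [GrpObj M] (j : M ⟶ G) [IsMonHom j] [IsClosedImmersion j.left]
    (hM : SGA3x.IsMultTypeFT M)
    (hMmax : ∀ (M' : Over (Spec (CommRingCat.of k))) [GrpObj M'] (j' : M' ⟶ G) [IsMonHom j']
      [IsClosedImmersion j'.left], SGA3x.IsMultTypeFT M' → ∃ g : M' ⟶ M, g ≫ j = j')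
    (M₂ : Over (Spec (CommRingCat.of k))) [GrpObj M₂] (j₂ : M₂ ⟶ G₂) [IsMonHom j₂] [IsClosedImmersion j₂.left]
    (hM₂ : SGA3x.IsMultTypeFT M₂)
    (hM₂max : ∀ (M' : Over (Spec (CommRingCat.of k))) [GrpObj M'] (j' : M' ⟶ G₂) [IsMonHom j']
      [IsClosedImmersion j'.left], SGA3x.IsMultTypeFT M' → ∃ g : M' ⟶ M₂, g ≫ j₂ = j') :
    ∃ (u : M₁ ⟶ M) (v : M ⟶ M₂), u ≫ j = j₁ ≫ i ∧ v ≫ j₂ = j ≫ q ∧
      IsClosedImmersion u.left ∧ Surjective v.left ∧ Flat v.left ∧ AlgGrp.IsKernel u v := by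
  haveI : Mono j := Over.mono_of_mono_left j
  haveI : Mono j₂ := Over.mono_of_mono_left j₂
  haveI : Mono i := Over.mono_of_mono_left i
  haveI : Mono j₁ := Over.mono_of_mono_left j₁
  haveI : IsClosedImmersion (j₁ ≫ i).left := by rw [Over.comp_left]; infer_instance
  obtain ⟨u, hu⟩ := hMmax M₁ (j₁ ≫ i) hM₁
  obtain ⟨A, _, _, _, _, e, he⟩ := RedCtr21.exists_model_comm G fun {X} a b => _root_.mul_comm a b
  haveI := he
  obtain ⟨A₂, _, _, _, _, e₂, he₂⟩ := RedCtr21.exists_model_comm G₂ fun {X} a b => _root_.mul_comm a b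
  haveI := he₂
  obtain ⟨ψ, hψ⟩ := MTRigid29.exists_bialgHom_of_monHom (e.hom ≫ q ≫ e₂.inv)
  obtain ⟨J, hJh, hJc, -, B, _, _, φ, -, hJ, hU⟩ := MTMax29.exists_largest (k := k) A
  obtain ⟨J₂, hJ₂h, hJ₂c, -, B₂, _, _, φ₂, -, hJ₂, hU₂⟩ := MTMax29.exists_largest (k := k) A₂
  obtain ⟨w, hwm, hw⟩ := exists_iso_model e φ hU J hJ hJc M j hM hMmax
  obtain ⟨w₂, hw₂m, hw₂⟩ := exists_iso_model e₂ φ₂ hU₂ J₂ hJ₂ hJ₂c M₂ j₂ hM₂ hM₂max
  haveI := hwm; haveI := hw₂m
  let qJ : CoactBr.sp k (A ⧸ J) ⟶ CoactBr.sp k A := CoactBr.pt (Ideal.Quotient.mkₐ k J)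
  let qJ₂ : CoactBr.sp k (A₂ ⧸ J₂) ⟶ CoactBr.sp k A₂ := CoactBr.pt (Ideal.Quotient.mkₐ k J₂)
  haveI : IsMonHom qJ := UniStr23.isMonHom_pt (Bialgebra.Quotient.mkBialgHom (R := k) J)
  haveI : IsMonHom qJ₂ := UniStr23.isMonHom_pt (Bialgebra.Quotient.mkBialgHom (R := k) J₂)
  haveI : IsClosedImmersion qJ₂.left := isClosedImmersion_pt_mk J₂
  haveI : Mono qJ₂ := Over.mono_of_mono_left qJ₂
  haveI : IsMonHom (CoactBr.pt (ψ : A₂ →ₐ[k] A)) := UniStr23.isMonHom_pt ψ
  haveI : IsMonHom (CoactBr.pt (φ₂ : B₂ →ₐ[k] A₂)) := UniStr23.isMonHom_pt φ₂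
  -- the induced map of multiplicative quotients
  obtain ⟨v₀, hv₀⟩ := RedCtr21.exists_lift_of_comp_eq_one φ₂ hJ₂ (qJ ≫ CoactBr.pt (ψ : A₂ →ₐ[k] A)) (by
    have h := QCompl15.eq_one_of_unipotent hU₂ (IsotrivialNormal.isMultTypeFT_sp (MultTypeLib.isMultType_of_const hJc))
      (qJ ≫ CoactBr.pt (ψ : A₂ →ₐ[k] A) ≫ CoactBr.pt (φ₂ : B₂ →ₐ[k] A₂))
    rwa [Category.assoc])
  change v₀ ≫ qJ₂ = _ at hv₀
  haveI : IsMonHom v₀ := TorsorSch25.isMonHom_of_points v₀ fun X a b => (cancel_mono qJ₂).1 (by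
    simp only [MonObj.mul_comp, Category.assoc, hv₀])
  obtain ⟨vb, hvb⟩ := MTRigid29.exists_bialgHom_of_monHom v₀
  have hvbar : ∀ a, vb (Ideal.Quotient.mk J₂ a) = Ideal.Quotient.mk J (ψ a) := fun a => by
    have h := hv₀
    rw [hvb] at h
    simp only [qJ, qJ₂, ← CoactBr.pt_comp] at h
    exact DFunLike.congr_fun (CoactBr.pt_injective h) a
  let v : M ⟶ M₂ := w.inv ≫ v₀ ≫ w₂.hom
  have hv : v ≫ j₂ = j ≫ q := by
    refine (cancel_epi w.hom).1 ?_
    simp only [v, Category.assoc, Iso.hom_inv_id_assoc]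
    change v₀ ≫ w₂.hom ≫ j₂ = _
    rw [hw₂, ← Category.assoc, hv₀, ← Category.assoc w.hom, hw, Category.assoc, Category.assoc, ← hψ]
    simp only [Category.assoc, Iso.inv_hom_id, Category.comp_id]
    rfl
  have hvff : Surjective v₀.left ∧ Flat v₀.left := by
    haveI : IsIso e.hom.left := inferInstanceAs (IsIso ((Over.forget _).map e.hom))
    haveI : IsIso e₂.inv.left := inferInstanceAs (IsIso ((Over.forget _).map e₂.inv))
    have hf : Flat (CoactBr.pt (ψ : A₂ →ₐ[k] A)).left ∧ Surjective (CoactBr.pt (ψ : A₂ →ₐ[k] A)).left := by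
      rw [← hψ, Over.comp_left, Over.comp_left]
      exact ⟨inferInstance, inferInstance⟩
    rw [CoactBr.pt_left] at hf
    have hψi : Function.Injective ψ :=
      (RingHom.FaithfullyFlat.iff_flat_and_comap_surjective.2
        ⟨(HasRingHomProperty.Spec_iff (P := @Flat)).1 hf.1, hf.2.surj⟩).injective
    have hff := HopfFF23.faithfullyFlat_of_injective vb
      (injective_bar φ hU J hJ J₂ (MultTypeLib.isMultType_of_const hJ₂c) ψ hψi vb hvbar)
    rw [hvb, CoactBr.pt_left]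
    exact ⟨⟨(RingHom.FaithfullyFlat.iff_flat_and_comap_surjective.1 hff).2⟩,
      (HasRingHomProperty.Spec_iff (P := @Flat)).2 (RingHom.FaithfullyFlat.iff_flat_and_comap_surjective.1 hff).1⟩
  haveI : IsIso w.inv.left := inferInstanceAs (IsIso ((Over.forget _).map w.inv))
  haveI : IsIso w₂.hom.left := inferInstanceAs (IsIso ((Over.forget _).map w₂.hom))
  haveI := hvff.1
  haveI := hvff.2
  haveI : IsClosedImmersion (u.left ≫ j.left) := by rw [← Over.comp_left, hu]; infer_instance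
  haveI hui : IsClosedImmersion u.left := IsClosedImmersion.of_comp u.left j.left
  haveI : Mono u := Over.mono_of_mono_left u
  refine ⟨u, v, hu, hv, hui, ?_, ?_, ?_⟩
  · simp only [v, Over.comp_left]
    infer_instance
  · simp only [v, Over.comp_left]
    infer_instance
  -- the kernel
  haveI : IsMonHom v₀ := inferInstance
  haveI : IsMonHom v := inferInstance
  have hiq : i ≫ q = toUnit G₁ ≫ η[G₂] := hq.w
  have huv : u ≫ v = toUnit M₁ ≫ η[M₂] := (cancel_mono j₂).1 (by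
    rw [Category.assoc, hv, ← Category.assoc, hu, Category.assoc, hiq, Category.assoc, IsMonHom.one_hom]
    simp [← Category.assoc])
  let L : Ideal (A ⧸ J) := Ideal.map (vb : A₂ ⧸ J₂ →+* A ⧸ J) (RingHom.ker (Bialgebra.counitAlgHom k (A₂ ⧸ J₂)))
  haveI hLh : L.IsHopfIdeal k := MultTypeLib.isHopfIdeal_map_aug vb
  let qL : CoactBr.sp k ((A ⧸ J) ⧸ L) ⟶ CoactBr.sp k (A ⧸ J) := CoactBr.pt (Ideal.Quotient.mkₐ k L)
  haveI : IsMonHom qL := UniStr23.isMonHom_pt (Bialgebra.Quotient.mkBialgHom (R := k) L)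
  haveI : IsClosedImmersion qL.left := isClosedImmersion_pt_mk L
  have hLv : qL ≫ v₀ = 1 := by
    rw [hvb]
    refine ev_injective fun b => ?_
    have hev : ev (qL ≫ CoactBr.pt (vb : (A₂ ⧸ J₂) →ₐ[k] A ⧸ J)) b = ev qL (vb b) := by
      rw [ev_comp, ev_pt]
      rfl
    rw [hev, AffRep19.ev_one, ← ev_algebraMap qL]
    have h : Ideal.Quotient.mkₐ k L (vb b) =
        Ideal.Quotient.mkₐ k L (algebraMap k (A ⧸ J) (Coalgebra.counit b)) := by
      refine Ideal.Quotient.eq.2 ?_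
      rw [← AlgHomClass.commutes vb, ← map_sub]
      refine Ideal.mem_map_of_mem _ ?_
      show Bialgebra.counitAlgHom k (A₂ ⧸ J₂) _ = 0
      simp
    show ev (CoactBr.pt (Ideal.Quotient.mkₐ k L)) (vb b) = ev (CoactBr.pt (Ideal.Quotient.mkₐ k L)) _
    rw [ev_pt, ev_pt, h]
  -- the kernel lies in the first subgroup
  let d : CoactBr.sp k ((A ⧸ J) ⧸ L) ⟶ G := qL ≫ w.hom ≫ j
  have hd : d ≫ q = toUnit _ ≫ η[G₂] := by
    simp only [d, Category.assoc, ← hv]
    simp only [v, Category.assoc, Iso.hom_inv_id_assoc]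
    rw [← Category.assoc, hLv, MonObj.one_comp]
    rfl
  let d₁ := hq.lift d (toUnit _) hd
  have hd₁ : d₁ ≫ i = d := hq.lift_fst _ _ hd
  haveI : IsMonHom d₁ := TorsorSch25.isMonHom_of_points d₁ fun X a b => (cancel_mono i).1 (by
    simp only [MonObj.mul_comp, Category.assoc, hd₁])
  haveI : IsIso w.hom.left := inferInstanceAs (IsIso ((Over.forget _).map w.hom))
  haveI : IsClosedImmersion (d₁.left ≫ i.left) := by
    rw [← Over.comp_left, hd₁]
    simp only [d, Over.comp_left]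
    infer_instance
  haveI : IsClosedImmersion d₁.left := IsClosedImmersion.of_comp d₁.left i.left
  obtain ⟨g₁, hg₁⟩ := hM₁max (CoactBr.sp k ((A ⧸ J) ⧸ L)) d₁ (IsotrivialNormal.isMultTypeFT_sp
    (MultTypeLib.isMultType_quot_of_field inferInstance (MultTypeLib.isMultType_of_const hJc) L))
  have hg₁u : g₁ ≫ u = qL ≫ w.hom := (cancel_mono j).1 (by
    rw [Category.assoc, hu, ← Category.assoc, hg₁, hd₁]
    simp only [d, Category.assoc])
  have hex : ∀ {X : Over (Spec (CommRingCat.of k))} (x : X ⟶ M), x ≫ v = toUnit X ≫ η[M₂] →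
      ∃ x₁ : X ⟶ M₁, x₁ ≫ u = x := fun {X} x hx => by
    obtain ⟨z, hz⟩ := RedCtr21.exists_lift_of_comp_eq_one vb (J := L) rfl (x ≫ w.inv) (by
      refine (cancel_mono w₂.hom).1 ?_
      rw [← hvb, MonObj.one_comp]
      simp only [Category.assoc]
      exact hx)
    refine ⟨z ≫ g₁, ?_⟩
    rw [Category.assoc, hg₁u, ← Category.assoc, hz, Category.assoc, w.inv_hom_id, Category.comp_id]
  exact ⟨⟨huv⟩, ⟨PullbackCone.IsLimit.mk huv
    (fun s => (hex s.fst (by rw [s.condition, toUnit_unique s.snd (toUnit s.pt)])).choose)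
    (fun s => (hex s.fst (by rw [s.condition, toUnit_unique s.snd (toUnit s.pt)])).choose_spec)
    (fun s => toUnit_unique _ _)
    (fun s m hm _ => (cancel_mono u).1 (hm.trans
      (hex s.fst (by rw [s.condition, toUnit_unique s.snd (toUnit s.pt)])).choose_spec.symm))⟩⟩

end Groth.Agent.MTExact15
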